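import Mathlib

/-! A vector fixed by a Coxeter element is killed by all simple roots. -/

set_option autoImplicit false
open TensorProduct

universe u

namespace Groth.Agent.CoxFix

variable {ι M N : Type u} [AddCommGroup M] [AddCommGroup N] (P : RootPairing ι ℤ M N) (k : Type u) [Field k]

theorem baseChange_coreflection (i : ι) (y : k ⊗[ℤ] N) :
    ((P.coreflection i : N ≃ₗ[ℤ] N) : N →ₗ[ℤ] N).baseChange k y
      = y - ((P.root' i).baseChange k y) • ((1 : k) ⊗ₜ[ℤ] P.coroot i) := by
  induction y using TensorProduct.induction_on with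
  | zero => simp
  | tmul a n =>
    rw [LinearMap.baseChange_tmul, Module.Dual.baseChange_apply_tmul, LinearEquiv.coe_coe,
      P.coreflection_apply, TensorProduct.tmul_sub, TensorProduct.tmul_smul, TensorProduct.smul_tmul',
      TensorProduct.smul_tmul']
    simp [mul_comm, Algebra.smul_def]
  | add x y hx hy =>
    simp only [map_add]
    rw [add_smul, hx, hy]
    abel

/-- the product of coreflections along a list -/
noncomputable def coxEnd (l : List ι) : N →ₗ[ℤ] N :=
  (l.map (fun i => ((P.coreflection i : N ≃ₗ[ℤ] N) : N →ₗ[ℤ] N))).prod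

theorem functional_coxEnd (φ : (k ⊗[ℤ] N) →ₗ[k] k) (H : k ⊗[ℤ] N) :
    ∀ l : List ι, (∀ j ∈ l, φ ((1 : k) ⊗ₜ[ℤ] P.coroot j) = 0) → φ ((coxEnd P l).baseChange k H) = φ H := by
  intro l
  induction l with
  | nil => intro _; simp [coxEnd, Module.End.one_eq_id]
  | cons i l ih =>
    intro h
    rw [coxEnd, List.map_cons, List.prod_cons, Module.End.mul_eq_comp, LinearMap.baseChange_comp,
      LinearMap.comp_apply, baseChange_coreflection, map_sub, map_smul, h i List.mem_cons_self, smul_zero, sub_zero]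
    exact ih fun j hj => h j (List.mem_cons_of_mem _ hj)

theorem root_eq_zero (s : Set ι) (hsc : ∀ i ∈ s, ∃ ω : M, P.coroot' i ω = 1 ∧ ∀ j ∈ s, j ≠ i → P.coroot' j ω = 0) :
    ∀ l : List ι, l.Nodup → (∀ i ∈ l, i ∈ s) → ∀ H : k ⊗[ℤ] N, (coxEnd P l).baseChange k H = H →
      ∀ i ∈ l, (P.root' i).baseChange k H = 0 := by
  intro l
  induction l with
  | nil => intro _ _ _ _ i hi; exact absurd hi (List.not_mem_nil)
  | cons a l ih =>
    intro hnd hls H hH
    rw [List.nodup_cons] at hnd
    obtain ⟨ω, hω1, hω0⟩ := hsc a (hls a List.mem_cons_self)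
    set φ : (k ⊗[ℤ] N) →ₗ[k] k := Module.Dual.baseChange k (P.toLinearMap ω)
    have hφ : ∀ j ∈ l, φ ((1 : k) ⊗ₜ[ℤ] P.coroot j) = 0 := by
      intro j hj
      have hne : j ≠ a := fun h => hnd.1 (h ▸ hj)
      have : P.toLinearMap ω (P.coroot j) = 0 := hω0 j (hls j (List.mem_cons_of_mem _ hj)) hne
      simp [φ, this]
    have hH' := hH
    rw [coxEnd, List.map_cons, List.prod_cons, Module.End.mul_eq_comp, LinearMap.baseChange_comp,
      LinearMap.comp_apply, baseChange_coreflection] at hH'
    have hz : (P.root' a).baseChange k ((coxEnd P l).baseChange k H) = 0 := by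
      have h := congrArg φ hH'
      rw [map_sub, map_smul, show φ (((l.map (fun i => ((P.coreflection i : N ≃ₗ[ℤ] N) : N →ₗ[ℤ] N))).prod).baseChange k H) = φ H
        from functional_coxEnd P k φ H l hφ, sub_eq_self] at h
      have h1 : φ ((1 : k) ⊗ₜ[ℤ] P.coroot a) = 1 := by
        have : P.toLinearMap ω (P.coroot a) = 1 := hω1
        simp [φ, this]
      rw [h1, smul_eq_mul, mul_one] at h
      exact h
    rw [show ((l.map (fun i => ((P.coreflection i : N ≃ₗ[ℤ] N) : N →ₗ[ℤ] N))).prod) = coxEnd P l from rfl, hz,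
      zero_smul, sub_zero] at hH'
    rw [hH'] at hz
    intro i hi
    rcases List.mem_cons.1 hi with rfl | hi
    · exact hz
    · exact ih hnd.2 (fun j hj => hls j (List.mem_cons_of_mem _ hj)) H hH' i hi

end Groth.Agent.CoxFix
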